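import Cfsg.Agent.Lib.OddOrder.Top
import Cfsg.Agent.Lib.OddOrder.S14.Main

/-!
The odd order theorem.
-/

set_option autoImplicit false

namespace CfsgLib.OddOrder

universe u

/-- **Feit-Thompson.** A finite group of odd order is solvable. -/
theorem feitThompson {G : Type u} [Group G] [Finite G] (hG : Odd (Nat.card G)) : Group.IsSolvable G :=
  isSolvable_of_inputs (fun _ _ _ _ _ _ _ _ _ _ f => S14.fourteen_false f) hG

end CfsgLib.OddOrder
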