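/-
Assembly of sections 8-12: from (6.8 c2) and the structure of types III, IV (11.9), the facts section 13
and 14 use, for a pair `S, T` with `q < p`.
-/
import Cfsg.Agent.Lib.OddOrder.S10.NoTypeV
import Cfsg.Agent.Lib.OddOrder.S12.Norm
import Cfsg.Agent.Lib.OddOrder.S12.NotTypeP
import Cfsg.Agent.S1382

set_option autoImplicit false
set_option linter.unusedSectionVars false
set_option linter.style.haveILetI false

namespace CfsgLib.OddOrder

open Cfsg Subgroup CfsgLib.MinSimpleOdd CfsgLib.OddOrder.S8 CfsgLib.OddOrder.S12 CfsgLib.OddOrder.S13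
open scoped Pointwise

universe u

variable {G : Type u} [Group G]

/-- PF (11.9), the part that the other sections use. -/
structure ElevenNine (G : Type u) [Group G] : Prop where
  lt : ∀ M W₁ U W₂ : Subgroup G, IsCoatom M → IsTypePWith M W₁ U W₂ → IsOfTypeIII M ∨ IsOfTypeIV M →
    Nat.card W₂ < Nat.card W₁
  elem : ∀ M W₁ U W₂ : Subgroup G, IsCoatom M → IsTypePWith M W₁ U W₂ → IsOfTypeIII M ∨ IsOfTypeIV M →
    (Nat.card W₂).Prime ∧ IsElementaryAbelian (Nat.card W₂) (fittingHallOf M) ∧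
      Nat.card (fittingHallOf M) = Nat.card W₂ ^ Nat.card W₁
  cyclic : ∀ M W₁ U W₂ : Subgroup G, IsCoatom M → IsTypePWith M W₁ U W₂ → IsOfTypeIII M ∨ IsOfTypeIV M →
    IsCyclic U
  fpf : ∀ M W₁ U W₂ : Subgroup G, IsCoatom M → IsTypePWith M W₁ U W₂ → IsOfTypeIII M ∨ IsOfTypeIV M →
    fittingHallOf M ⊓ centralizer (U : Set G) = ⊥

/-- There is no subgroup of type IV. -/
theorem ElevenNine.not_typeIV (e : ElevenNine G) {M : Subgroup G} (hM : IsCoatom M) : ¬ IsOfTypeIV M := fun h => by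
  obtain ⟨W₁, U, W₂, hP, -, -, -, hna, -⟩ := id h
  haveI := e.cyclic M W₁ U W₂ hM hP (Or.inr h)
  exact hna ⟨⟨fun a b => IsCyclic.commGroup.mul_comm a b⟩⟩

/-- The shape of `M_σ` for types III and IV. -/
theorem ElevenNine.shape [Finite G] (e : ElevenNine G) (hG : IsMinSimpleOddOrder G) {M : Subgroup G}
    (hM : IsCoatom M) (h : IsOfTypeIII M ∨ IsOfTypeIV M) : HasThreeFourShape M := by
  obtain ⟨W₁, U, W₂, hP⟩ : ∃ W₁ U W₂ : Subgroup G, IsTypePWith M W₁ U W₂ := by
    rcases h with ⟨W₁, U, W₂, h1, -⟩ | ⟨W₁, U, W₂, h1, -⟩ <;> exact ⟨W₁, U, W₂, h1⟩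
  obtain ⟨hp, hel, hcard⟩ := e.elem M W₁ U W₂ hM hP h
  obtain ⟨K, hK⟩ := CfsgLib.exists_isPiHallOf (kappa M) (M := M) (solvable_of_ne_top hG hM.1)
  obtain ⟨U₀, hd⟩ := exists_sigmaDecomposition hG hM (kappaHall_cyclic hG hM hK) hK
  obtain ⟨hK1, hU₀, -⟩ := (Cfsg.Agent.S1382.result hG M hM K U₀ hd).mp h
  have hn : 3 ≤ Nat.card W₁ := by
    have hodd : Odd (Nat.card W₁) := Odd.of_dvd_nat hG.1 (card_subgroup_dvd_card W₁)
    have h1 : Nat.card W₁ ≠ 1 := fun h1 => hP.W₁_ne (card_eq_one.mp h1)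
    obtain ⟨k, hk⟩ := hodd
    omega
  have hHle : fittingHallOf M ≤ (⁅M, M⁆ : Subgroup G) := hP.U_compl.1
  refine ⟨Nat.card W₂, Nat.card W₁, fittingHallOf M, U, hp, hn, ?_, hel, hcard, e.cyclic M W₁ U W₂ hM hP h, ?_,
    hP.U_compl.2.1.trans ((commutator_le_self M).trans (le_normalizer_fittingHallOf M))⟩
  · rw [← show (⁅M, M⁆ : Subgroup G) = sigmaCore M by rw [kappa_derived_eq hG hM hd hK1, hU₀, bot_sup_eq]]
    refine le_antisymm (fun x hx => ?_) (sup_le hHle hP.U_compl.2.1)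
    obtain ⟨a, ha, b, hb, rfl⟩ := hP.U_compl.2.2.2 x hx
    exact mul_mem_sup ha hb
  · intro hd'
    have hmul := card_complIn hP.U_compl
    have hdvd : Nat.card U ∣ (fittingHallOf M).relIndex M := by
      have h1 := relIndex_mul_relIndex (fittingHallOf M) (⁅M, M⁆ : Subgroup G) M hHle (commutator_le_self M)
      have h2 : (fittingHallOf M).relIndex (⁅M, M⁆ : Subgroup G) = Nat.card U := by
        refine Nat.eq_of_mul_eq_mul_left (Nat.card_pos (α := fittingHallOf M)) ?_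
        rw [← relIndex_bot_left (fittingHallOf M), relIndex_mul_relIndex _ _ _ bot_le hHle, relIndex_bot_left,
          relIndex_bot_left, hmul]
      exact h2 ▸ Dvd.intro _ h1
    have hdH : Nat.card W₂ ∣ Nat.card (fittingHallOf M) := hcard ▸ dvd_pow_self _ (by omega)
    exact hp.ne_one (Nat.eq_one_of_dvd_coprimes (fittingHallOf_hall hG hM).1 hdH (hd'.trans hdvd))

/-- Every maximal subgroup with `κ = ∅` is a Frobenius group (12.16). -/
theorem frobenius_of_elevenNine [Finite G] (e : ElevenNine G) (hG : IsMinSimpleOddOrder G) {L : Subgroup G}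
    (hL : IsCoatom L) (hκ : kappa L = ∅) : IsCoreFrobenius L := by
  haveI := Fintype.ofFinite G
  exact frobenius_of_over hG (fun L M hL hk x hx hxo hov _ =>
    not_kappa_over hG hL hk hx hxo hov (Ten.typeV_ti hG hL) (e.shape hG hL)) hL hκ

/-- What section 13 imports. -/
theorem ftImports [Fintype G] (e : ElevenNine G) (hc : Ten.CaseC2 G) (hG : IsMinSimpleOddOrder G) :
    FTImports G where
  no45 := fun M hM => ⟨e.not_typeIV hM, Ten.not_typeV_of_c2 hc hG hM⟩
  typeIII := fun M W₁ U W₂ hM hP h =>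
    ⟨e.lt M W₁ U W₂ hM hP (Or.inl h), e.fpf M W₁ U W₂ hM hP (Or.inl h)⟩
  frobI := fun L hL hκ x hx hx1 => by
    have he := fittingHallOf_eq hG hL (nilpotent_of_kappa_empty hG hL hκ)
    rw [he] at hx ⊢
    exact frobenius_of_elevenNine e hG hL hκ x hx hx1

/-- The pair with `q < p`, and the classification of the maximal subgroups. -/
theorem exists_classified_pair [Fintype G] (hc : Ten.CaseC2 G) (hG : IsMinSimpleOddOrder G) :
    ∃ S T W₁ W₂ U V : Subgroup G, FTPair S T W₁ W₂ U V ∧ IsClassified S T ∧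
      (Nat.card W₁).Prime ∧ (Nat.card W₂).Prime ∧ Nat.card W₁ < Nat.card W₂ := by
  obtain ⟨S, T, W₁, W₂, U, V, hP, -, -, hcl⟩ := exists_ftPair hG (exists_kappa_nonempty hG)
  obtain ⟨h1, h2, hco⟩ := Ten.pair_primes hP (Ten.not_typeV_of_c2 hc hG hP.hS) (Ten.not_typeV_of_c2 hc hG hP.hT)
  have hC : IsClassified S T := fun M hM => (Set.eq_empty_or_nonempty (kappa M)).imp id (hcl M hM)
  have hne : Nat.card W₁ ≠ Nat.card W₂ := (Nat.coprime_primes h1 h2).mp hco
  rcases lt_or_gt_of_ne hne with hlt | hlt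
  · exact ⟨S, T, W₁, W₂, U, V, hP, hC, h1, h2, hlt⟩
  · exact ⟨T, S, W₂, W₁, V, U, hP.swap, hC.swap, h2, h1, hlt⟩

/-- With `q < p` the side `S` is of type II and `T` of type II or III. -/
theorem types_of_lt [Fintype G] (imp : FTImports G) {S T W₁ W₂ U V : Subgroup G} (hP : FTPair S T W₁ W₂ U V)
    (hlt : Nat.card W₁ < Nat.card W₂) : IsOfTypeII S ∧ (IsOfTypeII T ∨ IsOfTypeIII T) := by
  refine ⟨?_, ?_⟩
  · rcases hP.hS25 with h | h | h | h
    · exact h
    · exact absurd (imp.typeIII S W₁ U W₂ hP.hS hP.hSP h).1 (by omega)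
    · exact absurd h (imp.no45 S hP.hS).1
    · exact absurd h (imp.no45 S hP.hS).2
  · rcases hP.hT25 with h | h | h | h
    · exact Or.inl h
    · exact Or.inr h
    · exact absurd h (imp.no45 T hP.hT).1
    · exact absurd h (imp.no45 T hP.hT).2

end CfsgLib.OddOrder
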