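import Cfsg.Agent.Lib.OddOrder.FeitThompson

/-!
There is no minimal simple group of odd order.
-/

set_option autoImplicit false

namespace CfsgLib.OddOrder

open Cfsg

universe u

/-- A minimal simple group of odd order does not exist. -/
theorem no_minSimple {G : Type u} [Group G] [Finite G] (hG : IsMinSimpleOddOrder G) : False := by
  haveI := hG.2.1
  have hsol : Group.IsSolvable G := feitThompson hG.1
  exact hG.2.2.1 ⟨⟨fun a b => IsSimpleGroup.comm_iff_isSolvable.mpr hsol a b⟩⟩

end CfsgLib.OddOrder
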