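import Mathlib
import Cfsg.Prelude.Def_OddOrder

/-!
The odd order theorem follows from the non-existence of minimal simple groups of odd order.
-/

set_option autoImplicit false

namespace CfsgLib.OddOrder

open Cfsg

universe u

/-- If there is no minimal simple group of odd order then every group of odd order is solvable. -/
theorem isSolvable_of_odd_of_no_minSimple
    (h : ∀ (H : Type u) [Group H] [Finite H], IsMinSimpleOddOrder H → False)
    {G : Type u} [Group G] [Finite G] (hG : Odd (Nat.card G)) : Group.IsSolvable G := by
  suffices H : ∀ (n : ℕ) (X : Type u) [Group X] [Finite X], Nat.card X = n → Odd n → Group.IsSolvable X from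
    H _ G rfl hG
  intro n
  induction n using Nat.strong_induction_on with
  | _ n ih =>
    intro X _ _ hn hodd
    subst hn
    by_cases hsub : Subsingleton X
    · exact inferInstance
    haveI : Nontrivial X := not_subsingleton_iff_nontrivial.mp hsub
    have hproper : ∀ K : Subgroup X, K ≠ ⊤ → Group.IsSolvable K := fun K hK =>
      ih _ (lt_of_le_of_ne K.card_le_card_group (mt K.eq_top_of_card_eq hK)) K rfl
        (hodd.of_dvd_nat K.card_subgroup_dvd_card)
    by_cases hN : ∃ N : Subgroup X, N.Normal ∧ N ≠ ⊥ ∧ N ≠ ⊤
    · obtain ⟨N, hNn, hN1, hN2⟩ := hN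
      haveI := hNn
      haveI := hproper N hN2
      have hlt : Nat.card (X ⧸ N) < Nat.card X := by
        have h1 := N.index_mul_card
        rw [Subgroup.index_eq_card] at h1
        rw [← h1]
        exact lt_mul_of_one_lt_right Nat.card_pos ((Subgroup.one_lt_card_iff_ne_bot N).mpr hN1)
      haveI := ih _ hlt (X ⧸ N) rfl (hodd.of_dvd_nat (N.card_quotient_dvd_card))
      exact Group.isSolvable_of_ker_le_range N.subtype (QuotientGroup.mk' N)
        (by rw [QuotientGroup.ker_mk', Subgroup.range_subtype])
    · push Not at hN
      haveI hs : IsSimpleGroup X := ⟨fun N hNn => by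
        by_cases h1 : N = ⊥
        · exact Or.inl h1
        · exact Or.inr (hN N hNn h1)⟩
      by_contra hns
      refine h X ⟨hodd, hs, fun hc => hns ?_, hproper⟩
      exact IsSimpleGroup.comm_iff_isSolvable.mp fun a b => mul_comm' a b

end CfsgLib.OddOrder
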