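/-
The odd order theorem from the non-existence of the configuration of section 14.
-/
import Cfsg.Agent.Lib.OddOrder.Imports
import Cfsg.Agent.Lib.OddOrder.S14.Setup
import Cfsg.Agent.Lib.OddOrder.S10.TenTen
import Cfsg.Agent.Lib.OddOrder.Reduction
import Cfsg.Agent.Lib.OddOrder.S11.Final

set_option autoImplicit false
set_option linter.unusedSectionVars false
set_option linter.style.haveILetI false

namespace CfsgLib.OddOrder

open Cfsg CfsgLib.OddOrder.S13 CfsgLib.OddOrder.S14

universe u

/-- PF section 14: the configuration of a pair does not exist. -/
def FourteenFalse (G : Type u) [Group G] : Prop :=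
  ∀ S T W₁ W₂ U V : Subgroup G, Fourteen S T W₁ W₂ U V → False

/-- The imports of sections 13 and 14, unconditionally. -/
theorem imports {G : Type u} [Group G] [Fintype G] (hG : IsMinSimpleOddOrder G) : FTImports G :=
  ftImports (S11.elevenNine hG) Ten.caseC2 hG

/-- There is no minimal simple group of odd order, given that the configuration of section 14 does not exist. -/
theorem false_of_inputs {G : Type u} [Group G] [Fintype G] (hG : IsMinSimpleOddOrder G)
    (hF : FourteenFalse G) : False := by
  obtain ⟨S, T, W₁, W₂, U, V, h⟩ := exists_fourteen hG (imports hG) (S12.exists_kappa_nonempty hG)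
  exact hF S T W₁ W₂ U V h

/-- The odd order theorem, given the inputs. -/
theorem isSolvable_of_inputs
    (hf : ∀ (H : Type u) [Group H] [Fintype H], IsMinSimpleOddOrder H → FourteenFalse H)
    {G : Type u} [Group G] [Finite G] (hG : Odd (Nat.card G)) : Group.IsSolvable G :=
  isSolvable_of_odd_of_no_minSimple (fun H _ _ h => by
    haveI := Fintype.ofFinite H
    exact false_of_inputs h (hf H h)) hG

end CfsgLib.OddOrder
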